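import Cfsg.Agent.Fl.I
import Cfsg.Agent.As.Main
import Cfsg.Agent.Sz.Main

/-! The slices C1 and C3 of `S5277`. -/

set_option autoImplicit false
set_option linter.unusedSectionVars false
set_option linter.style.haveILetI false
set_option maxHeartbeats 400000

namespace Cfsg.Agent.Fl.C5

open Subgroup MulAction Cfsg.Agent.H1 Cfsg.Agent.L Cfsg.Agent.FT Cfsg.Agent.H6
open scoped Pointwise commutatorElement

/-- an automorphism of a rank one system fixing `t` and the involutions of `Q` -/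
theorem sys_fix {G : Type} [Group G] [Finite G] (S : Sz.Sys G) (h2 : S.Rk2) (φ : MulAut G)
    (hH : ∀ h ∈ S.H, φ h ∈ S.H) (hQ : ∀ x ∈ S.Q, φ x ∈ S.Q) (ht : φ S.t = S.t)
    (hI : ∀ u ∈ S.Q, u * u = 1 → φ u = u) {r : ℕ} (hr : r.Prime) (h1 : φ ^ r = 1)
    (hd : ¬ r ∣ Nat.card G) : ∀ x ∈ S.Q, φ x = x := by
  let L : Subgroup G := φ.toMonoidHom.eqLocus (MonoidHom.id G)
  have mL : ∀ {x}, x ∈ L ↔ φ x = x := Iff.rfl
  have hb : ∀ x ∈ S.Q, ∀ h ∈ S.H, x * S.t * h ∈ L → x ∈ L := fun x hx h hh e =>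
    (S.bru_unique (hQ x hx) hx (hH h hh) hh (by rw [← ht, ← map_mul, ← map_mul, mL.1 e, ht])).1
  have hs : S.s ∈ L := hI _ S.sQ S.ss
  have hR : S.r ∈ L := hb _ S.rQ _ (S.H.inv_mem (S.QH S.rQ)) (S.str ▸ L.mul_mem (L.mul_mem ht hs) ht)
  obtain ⟨-, l, hl, g1⟩ := S.sub_good (Sz.SzThm.good (S.sub L ht hs hR hb) (by
    obtain ⟨u, hu, u2, u1, us⟩ := h2
    exact ⟨⟨u, hI u hu u2⟩, hu, Subtype.ext u2, fun e => u1 (congrArg Subtype.val e),
      fun e => us (congrArg Subtype.val e)⟩))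
  obtain rfl : l = S.q := hl.trans (Nat.card_congr (Equiv.subtypeEquivRight fun x =>
    ⟨fun e => ⟨e.1.1, e.2⟩, fun e => ⟨⟨e.1, hI x e.1 e.2⟩, e.2⟩⟩))
  by_contra! H
  obtain ⟨x, hx, hx'⟩ := H
  have lt : #|S.Q ⊓ L| < #|S.Q| := (card_le_of_le' inf_le_left).lt_of_ne fun e =>
    hx' ((eq_of_le_of_card_le inf_le_left e.ge).ge hx).2
  have h35 : (S.s * S.t) ^ 3 = 1 → (S.s * S.t) ^ 5 = 1 → False := fun a b => by
    have c : (S.s * S.t) ^ 2 = 1 := by rwa [show 5 = 3 + 2 from rfl, pow_add, a, one_mul] at b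
    rw [show 3 = 2 + 1 from rfl, pow_succ, c, one_mul] at a
    exact S.tH (eq_inv_of_mul_eq_one_right a ▸ S.H.inv_mem (S.QH S.sQ))
  obtain ⟨F, _, _, ⟨c⟩⟩ := h2.exists_co
  have q2 : 2 < S.q := c.q_eq ▸ c.four
  have q3 : S.q ≤ S.q ^ 3 := Nat.le_self_pow (by norm_num) _
  obtain ⟨e1, e2⟩ : #|S.Q| = S.q ^ 3 ∧ #|S.Q ⊓ L| = S.q := by
    obtain ⟨-, ⟨a, e⟩ | ⟨a, e⟩ | ⟨a, e⟩⟩ := Sz.SzThm.good S h2 <;>
      obtain ⟨b, e'⟩ | ⟨b, e'⟩ | ⟨b, e'⟩ := g1 <;>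
      first | exact (h35 a b).elim | exact (h35 b a).elim | exact ⟨e, e'⟩ | omega
  have m := Be.ncard_modEq_fix (Ω := G) hr (U := zpowers φ) (Γ := S.Q)
    ((pgroup_zpowers hr).2 (fun l hl e => (Nat.prime_dvd_prime_iff_eq hl hr).1
      (e.trans (orderOf_dvd_of_pow_eq_one h1)))) (Set.toFinite _) (by
      rintro _ ⟨n, rfl⟩ y hy
      obtain ⟨k, e⟩ := (mem_powers_iff_mem_zpowers (x := φ)).2 ⟨n, rfl⟩
      simp only at e ⊢
      rw [← e]
      clear e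
      induction k with
      | zero => exact hy
      | succ k ih => rw [pow_succ', mul_smul]; exact hQ _ ih)
  rw [show {x ∈ (S.Q : Set G) | zpowers φ ≤ stabilizer (MulAut G) x} = (S.Q ⊓ L : Subgroup G) from
    Set.ext fun x => and_congr_right fun _ => zpowers_le, ← Nat.card_coe_set_eq, ← Nat.card_coe_set_eq] at m
  have m' : r ∣ S.q ^ 3 - S.q := (Nat.modEq_iff_dvd' q3).1 (by rw [← e1]; exact e2 ▸ m.symm)
  obtain ⟨n, hn⟩ : ∃ n, S.q = n + 1 := ⟨S.q - 1, by omega⟩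
  rw [show S.q ^ 3 - S.q = S.q * n * (S.q + 1) from Nat.sub_eq_of_eq_add (by rw [hn]; ring)] at m'
  refine hd (m'.trans ?_)
  rw [S.card_G, S.card_H, c.card_D, ← c.q_eq, e1, hn, Nat.add_sub_cancel]
  exact ⟨(n ^ 2 + n + 1) * (n + 1) ^ 2 * #|S.V|, by ring⟩

theorem fix_iff {Γ : Type*} [Group Γ] {a y u : Γ} :
    y⁻¹ * a * y * u * (y⁻¹ * a * y)⁻¹ = u ↔ y * u * y⁻¹ * a = a * (y * u * y⁻¹) :=
  ⟨fun e => by conv_lhs => rw [← e]
               group, fun e => by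
    calc _ = y⁻¹ * (a * (y * u * y⁻¹)) * a⁻¹ * y := by group
      _ = _ := by rw [← e]; group⟩

variable {Γ : Type} [Group Γ] [Finite Γ] {p : ℕ} {G R Y E A M : Subgroup Γ}
variable (h : CE p G R Y E A M)
include h

theorem sR : Group.IsSolvable R := sol_of_comm (comm_of_cyclic (cyclic_of_prime h.rp))

theorem EY : E ≤ Y := h.eE ▸ comm_le_left h.nY

theorem YE : Y ≤ 𝐍(E) := h.eE ▸ left_le_norm_comm Y R

theorem RE : R ≤ 𝐍(E) := h.eE ▸ right_le_norm_comm Y R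

theorem YM : Y ≤ M := h.eM ▸ le_inf h.syl.le (YE h)

theorem RM : R ≤ 𝐍(M) := h.eM ▸ le_normalizer_inf h.nG ((RE h).trans (norm_le_norm_norm E))

theorem EE : ⁅E, R⁆ = E := by
  rw [h.eE]; exact commutator_commutator_eq h.nY (coprime_of_le h.cop le_rfl h.syl.le) (.inl (sR h))

theorem spc : A ≤ 𝐂(E) ∧ (∀ x ∈ E, x * x ∈ A) ∧ ⁅E, E⁆ ≤ A ∧ ∀ a ∈ A, a * a = 1 := by
  obtain ⟨h1, h2, h3, h4⟩ := h.spec E ((EY h).trans h.syl.le) (h.syl.isPGroup.to_le (EY h)) (RE h) (EE h)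
  rw [h.eA]
  exact ⟨h1, fun x hx => ⟨E.mul_mem hx hx, h2 x hx⟩, le_inf (der1_le E) h3, h4⟩

theorem dec {m : Γ} (hm : m ∈ M) : ∃ e ∈ E, ∃ c ∈ M ⊓ 𝐂(R), m = e * c := by
  rw [← (h.uni M h.lt (RM h) ((EY h).trans (YM h))).2.1]
  exact exists_mul_centralizer_commutator (RM h) (coprime_of_le h.cop le_rfl h.lt.le) (.inl (sR h)) hm

theorem MA : M ≤ 𝐍(A) := fun m hm => by
  obtain ⟨e, he, c, hc, rfl⟩ := dec h hm
  refine mul_mem (cent_le_norm A (le_cent_symm (spc h).1 he)) ?_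
  rw [h.eA]
  exact le_normalizer_inf (A := M ⊓ 𝐂(R)) (inf_le_left.trans (h.eM ▸ inf_le_right))
    (inf_le_right.trans le_normalizer) hc

theorem nG : G.Normal := normalizer_eq_top_iff.1 (top_le_iff.1 (h.top ▸ sup_le le_normalizer h.nG))

theorem not_le : ¬ E ≤ 𝐂(R) := fun e => h.ne (by rw [← EE h, comm_eq_bot_iff.2 e])

/-- a second fixed point of `R` -/
theorem exists_c (hd : ¬ #|R| ∣ M.relIndex G - 1) : ∃ c ∈ G ⊓ 𝐂(R), c ∉ M := by
  haveI := nG h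
  have e0 : (M ⊔ R) ⊓ G = M := by
    rw [sup_inf_modular h.lt.le (.inl (RM h)), inf_eq_bot_of_coprime' h.cop, sup_bot_eq]
  have e1 : (M ⊔ R).index = M.relIndex G := by
    have a := relIndex_inf_mul_relIndex G (M ⊔ R) ⊤
    have b := relIndex_inf_mul_relIndex (M ⊔ R) G ⊤
    rw [inf_top_eq, relIndex_top_right, relIndex_top_right] at a b
    rw [inf_comm, ← b, ← relIndex_sup_right, sup_right_comm, sup_eq_right.2 h.lt.le, h.top,
      relIndex_top_right, mul_comm, Nat.mul_left_inj G.index_ne_zero_of_finite, ← inf_relIndex_right, e0] at a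
    exact a
  have m := Be.ncard_modEq_fix (Ω := Γ ⧸ (M ⊔ R)) h.rp (U := R) (Γ := Set.univ)
    (pgroup_of_card_prime rfl) (Set.toFinite _) fun _ _ _ _ => trivial
  rw [Set.ncard_univ, ← index_eq_card, e1] at m
  obtain ⟨x, hx, x1⟩ : ∃ x : Γ ⧸ (M ⊔ R), R ≤ stabilizer Γ x ∧ x ≠ ((1 : Γ) : Γ ⧸ (M ⊔ R)) := by
    by_contra! H
    rw [show {x ∈ Set.univ | R ≤ stabilizer Γ x} = {((1 : Γ) : Γ ⧸ (M ⊔ R))} from Set.ext fun x =>
      ⟨fun e => H x e.2, fun e => ⟨trivial, by rw [e, stabilizer_quotient]; exact le_sup_right⟩⟩,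
      Set.ncard_singleton] at m
    exact hd ((Nat.modEq_iff_dvd' (Nat.pos_of_ne_zero (relIndex_ne_zero' M G))).1 m.symm)
  obtain ⟨y, rfl⟩ := QuotientGroup.mk_surjective x
  obtain ⟨g, hg, b, hb, rfl⟩ := (NormalIn.of_normal (N := G) le_top).mem_sup le_top |>.1 (h.top ▸ mem_top y)
  rw [QuotientGroup.mk_mul_of_mem _ (mem_sup_right hb)] at hx x1
  obtain ⟨m, hm, c, hc, e⟩ := exists_centralizer_mul (k := g⁻¹) (RM h) (coprime_of_le h.cop le_rfl h.lt.le)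
    (.inl (sR h)) fun a ha => e0 ▸ mem_inf.2 ⟨by
      have := QuotientGroup.eq.1 (hx ha).symm
      simpa [commutatorElement_def, mul_assoc] using mul_mem this (mem_sup_right (R.inv_mem ha)), by
      simpa [commutatorElement_def, mul_assoc] using
        mul_mem (G.inv_mem hg) (H1.conj_mem_of_mem_normalizer (h.nG ha) hg)⟩
  refine ⟨c, ⟨?_, hc⟩, fun e' => x1 (QuotientGroup.eq.2 ?_)⟩
  · simpa [e] using mul_mem (G.inv_mem (h.lt.le hm)) (G.inv_mem hg)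
  · rw [mul_one, e]; exact mem_sup_left (mul_mem hm e')

theorem c3 (hA : A ≠ ⊥) (H : ∀ a ∈ A, a ≠ 1 → ∀ g ∈ G, g * a * g⁻¹ ∈ M → g ∈ M) : False := by
  haveI := nG h
  haveI := h.simple
  haveI := Fact.mk Nat.prime_two
  obtain ⟨s1, s2, -, s4⟩ := spc h
  have AY : A ≤ Y := (h.eA ▸ inf_le_left : A ≤ E).trans (EY h)
  have AM := AY.trans (YM h)
  obtain ⟨z, hz, z1⟩ := exists_mem_ne_one (inf_cent_ne_bot_of_pgroup Nat.prime_two
    (h.syl.isPGroup.to_le AY) h.syl.isPGroup ((YM h).trans (MA h)) hA)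
  have cM : ∀ a ∈ A, a ≠ 1 → ∀ g ∈ G, g * a = a * g → g ∈ M := fun a ha a1 g hg e =>
    H a ha a1 g hg (by rw [e, mul_inv_cancel_right]; exact AM ha)
  let z' : G := ⟨z, h.lt.le (AM hz.1)⟩
  have z2 : orderOf z' = 2 := Be.two_of_sq (Subtype.ext (s4 z hz.1)) fun e => z1 (congrArg Subtype.val e)
  have ne : M.subgroupOf G ≠ ⊤ := fun e => h.lt.not_ge (subgroupOf_eq_top.1 e)
  have cz : ∀ g : G, (g : Γ) * z * (g : Γ)⁻¹ ∈ M → (g : Γ) * z * (g : Γ)⁻¹ ∈ A := fun g e =>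
    H1.conj_mem_of_mem_normalizer (MA h (H z hz.1 z1 g g.2 e)) hz.1
  obtain ⟨X, hX⟩ := As.zd (M.subgroupOf G) ne z' z2 (AM hz.1)
    ⟨h.syl.toSylow, AY hz.1, fun s hs => Subtype.ext (hz.2 s hs)⟩ (fun g => H z hz.1 z1 g g.2)
    fun g hc hne x hx => cM _ (A.mul_mem hz.1 (cz g (cM z hz.1 z1 _ (g * z' * g⁻¹).2
      (congrArg Subtype.val hc.eq).symm))) (fun e => hne (Subtype.ext (by
        rw [← s4 z hz.1] at e; exact mul_left_cancel e))) x x.2 (congrArg Subtype.val (mem_cent1.1 hx))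
  have inA : ∀ t : G, t * t = 1 → (t : Γ) ∈ M → (t : Γ) ∈ A := fun t t2 ht => by
    rcases eq_or_ne t 1 with rfl | t1
    · exact A.one_mem
    obtain ⟨g, rfl⟩ := isConj_iff.1 (SE.isConj_involutions hX z2 (Be.two_of_sq t2 t1))
    exact cz g ht
  have se : IsStronglyEmbedded (M.subgroupOf G) := isStronglyEmbedded_iff.2 ⟨ne,
    even_iff_two_dvd.2 (z2 ▸ Subgroup.orderOf_dvd_natCard _ (AM hz.1 : z' ∈ M.subgroupOf G)),
    fun t ht t2 g => H t (inA t (Be.sq_of_two t2) ht)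
      (fun e => Be.ne_one_of_two t2 (Subtype.ext e)) g g.2⟩
  have h4 : Be.Four (M.subgroupOf G) := by
    by_contra h4
    refine h.lt.not_ge fun g hg => ?_
    obtain ⟨o, ho, e⟩ := Be.rank_one se h4 (AM hz.1 : z' ∈ M.subgroupOf G) z2 ⟨g, hg⟩
    rcases (Be.oddCore_normal (G := G)).eq_bot_or_eq_top with e' | e'
    · rw [e', mem_bot] at ho
      rw [ho, inv_one, one_mul] at e
      exact cM z hz.1 z1 g hg (congrArg Subtype.val e.eq)
    · have := Be.odd_orderOf_of_mem odd_card_oddCore (e' ▸ mem_top z')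
      rw [z2] at this
      exact absurd this (by decide)
  obtain ⟨S, hS, h2, -⟩ := Be.BeI.sys _ se h4 ((normalCore_normal _).eq_bot_or_eq_top.resolve_right
    fun e => ne (top_le_iff.1 (e ▸ normalCore_le _)))
  have mH : ∀ {x : G}, x ∈ S.H ↔ (x : Γ) ∈ M := by rw [hS]; exact Iff.rfl
  have hr : ¬ #|R| ∣ #|G| := (Nat.Prime.coprime_iff_not_dvd h.rp).1 h.cop
  obtain ⟨c, hc, cm⟩ := exists_c h fun e => hr (e.trans (by
    rw [relIndex, ← hS, S.index_H, Nat.add_sub_cancel]; exact card_subgroup_dvd_card _))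
  let c' : G := ⟨c, hc.1⟩
  obtain ⟨x, hx, k, hk, e⟩ := S.inv_form (v := c' * z' * c'⁻¹)
    (by rw [conj_mul, Be.sq_of_two z2, mul_one, mul_inv_cancel]) fun e => cm (H z hz.1 z1 c hc.1 (mH.1 e))
  obtain ⟨b, hb, rfl⟩ := hk.sqrt
  have hy : ((x * b⁻¹ : G) : Γ) ∈ M := mH.1 (mul_mem (S.QH hx) (inv_mem hb.1))
  have et : (x * b⁻¹) * S.t * (x * b⁻¹)⁻¹ = c' * z' * c'⁻¹ := by
    rw [e, mul_assoc x, ← hb.tk]; group
  generalize x * b⁻¹ = y at hy et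
  obtain ⟨a, ha, a1⟩ := exists_mem_ne_one (ne_bot_of_prime h.rp)
  have fx : ∀ u : G, MulAut.conjNormal ((y : Γ)⁻¹ * a * y) u = u ↔ (y : Γ) * u * (y : Γ)⁻¹ ∈ 𝐂(R) := fun u => by
    rw [← cent1_eq_cent_of_prime h.rp ha a1, mem_cent1, Subtype.ext_iff, MulAut.conjNormal_apply, fix_iff]
  have nH : ∀ u ∈ S.H, MulAut.conjNormal ((y : Γ)⁻¹ * a * y) u ∈ S.H := fun u hu =>
    mH.2 (H1.conj_mem_of_mem_normalizer (mul_mem (mul_mem (inv_mem (le_normalizer hy)) (RM h ha))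
      (le_normalizer hy)) (mH.1 hu))
  have q4 : ∀ u ∈ S.H, u * u * (u * u) = 1 → u ∈ S.Q := fun u hu e =>
    S.mem_Q_of_sq hu (S.inv_mem_Q (mul_mem hu hu) e)
  have key := sys_fix S h2 _ nH (fun u hu => q4 _ (nH u (S.QH hu)) (by
      rw [← map_mul, ← map_mul, ← pow_two, ← pow_two, ← pow_mul, (Sz.SzThm.good S h2).1 u hu, map_one]))
    ((fx _).2 (by
      have := congrArg Subtype.val et
      simp only [coe_mul, coe_inv] at this
      rw [this]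
      exact mul_mem (mul_mem hc.2 (h.eA ▸ hz.1).2) (inv_mem hc.2)))
    (fun u hu u2 => (fx _).2 (h.eA ▸ inA (y * u * y⁻¹) (by rw [conj_mul, u2, mul_one, mul_inv_cancel])
      (mul_mem (mul_mem hy (mH.1 (S.QH hu))) (inv_mem hy))).2) h.rp (by
      rw [← map_pow, ← inv_inv (y : Γ), inv_inv (y : Γ)⁻¹, conj_pow,
        show a ^ #|R| = 1 from congrArg Subtype.val (pow_card_eq_one' (x := (⟨a, ha⟩ : R)))]
      simp) hr
  refine not_le h fun u hu => ?_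
  have uM := YM h (EY h hu)
  have := (fx _).1 (key (y⁻¹ * ⟨u, h.lt.le uM⟩ * y⁻¹⁻¹) (q4 _
    (mH.2 (mul_mem (mul_mem (inv_mem hy) uM) (inv_mem (inv_mem hy)))) (by
      rw [conj_mul, conj_mul, conj_eq_one_iff]; exact Subtype.ext (s4 _ (s2 u hu)))))
  simpa [mul_assoc] using this

omit h in
instance instC3 : C3 := ⟨c3⟩

end Cfsg.Agent.Fl.C5
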