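import Cfsg.Agent.Fl.C1
import Cfsg.Agent.Fl.C2
import Cfsg.Agent.Fl.C3
import Cfsg.Agent.Fl.Rep
import Cfsg.Agent.Fl.RB5
import Cfsg.Agent.Fl.TB

/-! Flavell's Theorem B: all slices of `S5277` except the fusion one. -/

namespace Cfsg.Agent.Fl

universe u

theorem tb : TB.{u} := inferInstance

theorem ts : TS.{u} := inferInstance

end Cfsg.Agent.Fl
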