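import Cfsg.Agent.Fl.C3

/-! The slice C1 of `S5277`: a transfer lemma. -/

set_option autoImplicit false
set_option linter.unusedSectionVars false
set_option linter.style.haveILetI false
set_option maxHeartbeats 400000

namespace Cfsg.Agent.Fl.C5

open Subgroup MulAction Cfsg.Agent.H1 Cfsg.Agent.L Cfsg.Agent.FT Cfsg.Agent.H6
open scoped Pointwise commutatorElement

/-- Thompson's transfer lemma for an involution centralised by `N(Y)` -/
theorem tt {G : Type} [Group G] [Finite G] {Y Z : Subgroup G} (hY : L.IsSylowIn 2 Y ⊤) (hZ : Z ≤ Y)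
    (hi : Z.relIndex Y = 2) {w : G} (w2 : w * w = 1) (hw : 𝐍(Y) ≤ 𝐂[w]) (hc : w ∈ commutator G) :
    w ∈ Z := by
  classical
  by_contra hwZ
  haveI := Fact.mk Nat.prime_two
  haveI := Fintype.ofFinite (G ⧸ Z)
  have h1 : Equiv.Perm.sign (toPermHom G (G ⧸ Z) w) = 1 :=
    Abelianization.commutator_subset_ker (Equiv.Perm.sign.comp (toPermHom G (G ⧸ Z))) hc
  rw [Equiv.Perm.sign_of_pow_two_eq_one (by rw [← map_pow, pow_two, w2, map_one]),
    neg_one_pow_eq_one_iff_even (by decide), ← Nat.card_eq_fintype_card, ← Nat.card_eq_fintype_card,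
    ← index_eq_card, Nat.card_coe_set_eq, ← relIndex_mul_index hZ, hi] at h1
  obtain ⟨k, hk⟩ := Nat.not_even_iff_odd.1 fun e => hY.not_dvd_index e.two_dvd
  have h2 := Set.ncard_le_card (Function.fixedPoints (toPermHom G (G ⧸ Z) w))
  rw [← index_eq_card, ← relIndex_mul_index hZ, hi] at h2
  obtain ⟨m, hm⟩ : 2 ^ 2 ∣ (Function.fixedPoints (toPermHom G (G ⧸ Z) w)).ncard := by
    refine As.U3p.dvd_ncard (X := Y) (Set.toFinite _) (fun g hg x hx => ?_) fun x hx => ?_
    · change w • g • x = g • x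
      rw [← mul_smul, ← mem_cent1.1 (hw (le_normalizer hg)), mul_smul]
      exact congrArg _ hx
    obtain ⟨g, rfl⟩ := QuotientGroup.mk_surjective x
    have e : stabilizer G (g : G ⧸ Z) = g ⋆ Z := Subgroup.ext fun y => by
      rw [mem_stabilizer_iff, mem_conj, eq_comm]
      exact QuotientGroup.eq.trans (by rw [mul_assoc]; rfl)
    have hw' : w ∈ g ⋆ Z := e ▸ hx
    obtain ⟨n, hn⟩ := pgroup_relIndex Nat.prime_two hY.isPGroup (g ⋆ Z)
    rw [e, hn]
    refine pow_dvd_pow 2 (by_contra fun h4 => ?_)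
    have c1 := card_inf_mul_relIndex (g ⋆ Z) Y
    have c2 := card_inf_mul_relIndex Z Y
    have c3 : 2 ^ n ≤ 2 ^ 1 := Nat.pow_le_pow_right two_pos (by omega)
    rw [hn] at c1
    rw [hi, inf_eq_left.2 hZ] at c2
    have le : g ⋆ Z ≤ Y := inf_eq_left.1 (eq_of_le_of_card_le inf_le_left (by
      rw [card_conj]; nlinarith))
    have n1 := (normal_of_relIndex_p Nat.prime_two hY.isPGroup le (by
      have := card_inf_mul_relIndex (g ⋆ Z) Y
      rw [inf_eq_left.2 le, card_conj, ← c2] at this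
      exact Nat.eq_of_mul_eq_mul_left Nat.card_pos this)).1
    have n2 := ((normal_of_relIndex_p Nat.prime_two hY.isPGroup hZ hi).1.conj g)
    obtain ⟨c, hc, e'⟩ := sylow_exists_conj_le Nat.prime_two (hY.of_le n1.2 le_top) n2.2
      (pgroup_conj hY.isPGroup g)
    rw [← mul_conj] at e'
    rw [← conj_of_mem_norm hc, ← mul_conj, mem_conj, mul_assoc,
      ← mem_cent1.1 (hw (mem_norm_of_conj_le e')), inv_mul_cancel_left] at hw'
    exact hwZ hw'
  obtain ⟨j, hj⟩ := h1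
  rw [hm, hk] at hj h2
  omega

variable {Γ : Type} [Group Γ] [Finite Γ] {p : ℕ} {G R Y E A M : Subgroup Γ}

theorem c1 (h : CE p G R Y E A M) : A ≠ ⊥ := fun hA => by
  haveI := h.simple
  obtain ⟨-, s2, s3, -⟩ := spc h
  rw [hA, le_bot_iff, comm_eq_bot_iff] at s3
  have th : Thin G R E := ⟨(EY h).trans h.syl.le, h.syl.isPGroup.to_le (EY h), RE h, EE h, h.ne, s3⟩
  have ME : M ≤ 𝐂(E) := fun m hm => by
    obtain ⟨e, he, c, hc, rfl⟩ := dec h hm
    exact mul_mem (s3 he) (h.thinN E th ⟨⟨h.lt.le hc.1, hc.2⟩, (h.eM ▸ hc.1).2⟩)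
  have sim : ∀ N : Subgroup Γ, N ≤ G → G ≤ 𝐍(N) → N ≠ ⊥ → G ≤ N := fun N h1 h2 h3 =>
    subgroupOf_eq_top.1 (((NormalIn.mk h1 h2).normal_subgroupOf.eq_bot_or_eq_top).resolve_left fun e =>
      h3 (by rwa [subgroupOf_eq_bot, disjoint_iff, inf_eq_left.2 h1] at e))
  have NM : G ⊓ 𝐍(Y) ≤ M := (h.uni _ (inf_le_left.lt_of_ne fun e => h.lt.not_ge
    ((sim Y h.syl.le (inf_eq_left.1 e) (ne_bot_of_le h.ne (EY h))).trans (YM h)))
    (le_normalizer_inf h.nG (h.nY.trans (norm_le_norm_norm Y)))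
    (le_inf th.le ((EY h).trans le_normalizer))).1
  obtain ⟨Z, h1, h2, h3, -⟩ := exists_index_p_ge Nat.prime_two h.syl.isPGroup (K := Y ⊓ 𝐂(R))
    (inf_le_left.lt_of_ne fun e => not_le h ((EY h).trans (inf_eq_left.1 e)))
  have EZ : E ≤ Z := fun w hw => by
    refine tt (G := G) (Y := Y.subgroupOf G) (Z := Z.subgroupOf G) (isSylowIn_top h.syl.toSylow)
      (comap_mono h2.1) (by rw [relIndex_subgroupOf h.syl.le, h3]) (w := ⟨w, th.le hw⟩)
      (Subtype.ext (mem_bot.1 (hA ▸ s2 w hw))) (fun g hg => mem_cent1.2 (Subtype.ext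
        (ME (NM ⟨g.2, ?_⟩) w hw).symm)) ?_
    · have := map_norm_le G.subtype _ (mem_map_of_mem _ hg)
      rwa [subgroupOf_map_subtype, inf_eq_left.2 h.syl.le] at this
    · have := sim _ (der1_le G) (NormalIn.der1 G).2 (fun e => h.lt.not_ge
        (le_inf le_rfl (le_norm_of_le_cent (le_cent_of_le (comm_eq_bot_iff.1 e) th.le)) |>.trans h.eM.ge)) (th.le hw)
      rw [der1_eq_commutator] at this
      obtain ⟨x, hx, e⟩ := this
      exact (show x = ⟨w, th.le hw⟩ from Subtype.ext e) ▸ hx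
  have : Y ≤ Z := (commutator_sup_centralizer h.nY (coprime_of_le h.cop le_rfl h.syl.le)
    (.inl (sR h))).ge.trans (sup_le (h.eE ▸ EZ) h1)
  rw [relIndex_eq_one.2 this] at h3
  exact absurd h3 (by decide)

instance instC1 : C1 := ⟨c1⟩

end Cfsg.Agent.Fl.C5
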